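import Mathlib
import Cfsg.Agent.Lib.PSUMult.PartII1

/-!
# The abstract wreath argument

A central extension of `X`, subgroups `E ≤ A ≤ C = A ⟨π₀⟩`, with `E` lifted canonically (by `Good` and
`GenL`), the preimage of `A` abelian modulo the lift of `E`, and the "fixed points" of `π₀` on `A / E`
lifting to elements that commute with a lift of `π₀`.  Then the kernel meets the commutator subgroup of
the preimage of `C` trivially.
-/

set_option autoImplicit false
set_option linter.style.haveILetI false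

open scoped commutatorElement

namespace Cfsg.Agent.Lib.PSUMult

universe u

/-- Commutators in `Ā ⟨p⟩`, `Ā` abelian normal. -/
theorem mem_comm_form {Q : Type u} [Group Q] (B : Subgroup Q) (hBn : B.Normal)
    (hc : ∀ a ∈ B, ∀ b ∈ B, a * b = b * a) (p : Q) (hgen : ∀ x : Q, ∃ a ∈ B, ∃ k : ℤ, x = a * p ^ k)
    {x : Q} (hx : x ∈ commutator Q) : ∃ a ∈ B, x = ⁅a, p⁆ := by
  have hconj : ∀ a ∈ B, p * a * p⁻¹ ∈ B := fun a ha => hBn.conj_mem a ha p
  have hcm : ∀ a ∈ B, ⁅a, p⁆ ∈ B := by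
    intro a ha
    have : ⁅a, p⁆ = a * (p * a⁻¹ * p⁻¹) := by
      rw [commutatorElement_def]; group
    rw [this]
    exact mul_mem ha (hconj _ (inv_mem ha))
  let R : Subgroup Q :=
    { carrier := {y | ∃ a ∈ B, y = ⁅a, p⁆}
      one_mem' := ⟨1, one_mem _, by simp⟩
      mul_mem' := by
        rintro _ _ ⟨a, ha, rfl⟩ ⟨b, hb, rfl⟩
        refine ⟨a * b, mul_mem ha hb, ?_⟩
        have h1 : ⁅a, p⁆ * ⁅b, p⁆ = a * ((p * a⁻¹ * p⁻¹) * (b * (p * b⁻¹ * p⁻¹))) := by
          rw [commutatorElement_def, commutatorElement_def]; group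
        have h2 : ⁅a * b, p⁆ = a * ((b * (p * b⁻¹ * p⁻¹)) * (p * a⁻¹ * p⁻¹)) := by
          rw [commutatorElement_def]; group
        rw [h1, h2, hc _ (hconj _ (inv_mem ha)) _ (mul_mem hb (hconj _ (inv_mem hb)))]
      inv_mem' := by
        rintro _ ⟨a, ha, rfl⟩
        refine ⟨a⁻¹, inv_mem ha, ?_⟩
        have h1 : ⁅a, p⁆⁻¹ = (p * a * p⁻¹) * a⁻¹ := by
          rw [commutatorElement_def]; group
        have h2 : ⁅a⁻¹, p⁆ = a⁻¹ * (p * a * p⁻¹) := by
          rw [commutatorElement_def]; group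
        rw [h1, h2, hc _ (hconj _ ha) _ (inv_mem ha)] }
  have hRB : R ≤ B := by
    rintro _ ⟨a, ha, rfl⟩
    exact hcm a ha
  -- conjugation by `p ^ k`
  have hconjp : ∀ y ∈ R, p * y * p⁻¹ ∈ R ∧ p⁻¹ * y * p ∈ R := by
    rintro _ ⟨a, ha, rfl⟩
    constructor
    · refine ⟨p * a * p⁻¹, hconj a ha, ?_⟩
      rw [commutatorElement_def, commutatorElement_def]; group
    · have ha' : p⁻¹ * a * p ∈ B := by
        have := hBn.conj_mem a ha p⁻¹
        simpa using this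
      refine ⟨p⁻¹ * a * p, ha', ?_⟩
      rw [commutatorElement_def, commutatorElement_def]; group
  have hconjk : ∀ (k : ℤ), ∀ y ∈ R, p ^ k * y * (p ^ k)⁻¹ ∈ R := by
    intro k
    induction k using Int.induction_on with
    | zero => intro y hy; simpa using hy
    | succ i ih =>
      intro y hy
      have : p ^ ((i : ℤ) + 1) * y * (p ^ ((i : ℤ) + 1))⁻¹ =
          p ^ (i : ℤ) * (p * y * p⁻¹) * (p ^ (i : ℤ))⁻¹ := by
        rw [zpow_add_one]; group
      rw [this]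
      exact ih _ (hconjp y hy).1
    | pred i ih =>
      intro y hy
      have : p ^ (-(i : ℤ) - 1) * y * (p ^ (-(i : ℤ) - 1))⁻¹ =
          p ^ (-(i : ℤ)) * (p⁻¹ * y * p) * (p ^ (-(i : ℤ)))⁻¹ := by
        rw [zpow_sub_one]; group
      rw [this]
      exact ih _ (hconjp y hy).2
  haveI hRn : R.Normal := by
    constructor
    intro y hy g
    obtain ⟨a, ha, k, rfl⟩ := hgen g
    have h1 := hconjk k y hy
    have h2 : a * p ^ k * y * (a * p ^ k)⁻¹ = a * (p ^ k * y * (p ^ k)⁻¹) * a⁻¹ := by group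
    rw [h2, hc a ha _ (hRB h1)]
    simpa using h1
  -- the quotient is abelian
  have hab : ∀ g h : Q, ⁅g, h⁆ ∈ R := by
    intro g h
    obtain ⟨a, ha, k, rfl⟩ := hgen g
    obtain ⟨b, hb, l, rfl⟩ := hgen h
    rw [← QuotientGroup.eq_one_iff, commutatorElement_def]
    have hcp : ∀ c ∈ B, Commute ((c : Q) : Q ⧸ R) ((p : Q) : Q ⧸ R) := by
      intro c hc'
      show (c : Q ⧸ R) * (p : Q ⧸ R) = (p : Q ⧸ R) * (c : Q ⧸ R)
      have h3 : ⁅c, p⁆ ∈ R := ⟨c, hc', rfl⟩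
      have h4 : ((⁅c, p⁆ : Q) : Q ⧸ R) = 1 := (QuotientGroup.eq_one_iff _).mpr h3
      rw [commutatorElement_def] at h4
      have h5 : ((c * p * c⁻¹ * p⁻¹ : Q) : Q ⧸ R) * ((p * c : Q) : Q ⧸ R) = ((p * c : Q) : Q ⧸ R) := by
        rw [h4, one_mul]
      rw [← QuotientGroup.mk_mul] at h5
      have h6 : c * p * c⁻¹ * p⁻¹ * (p * c) = c * p := by group
      rw [h6] at h5
      exact h5
    have hcb : Commute ((a : Q) : Q ⧸ R) ((b : Q) : Q ⧸ R) := by
      show (a : Q ⧸ R) * (b : Q ⧸ R) = (b : Q ⧸ R) * (a : Q ⧸ R)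
      rw [← QuotientGroup.mk_mul, ← QuotientGroup.mk_mul, hc a ha b hb]
    have h7 : Commute ((a * p ^ k : Q) : Q ⧸ R) ((b * p ^ l : Q) : Q ⧸ R) := by
      have e1 : ((a * p ^ k : Q) : Q ⧸ R) = (a : Q ⧸ R) * (p : Q ⧸ R) ^ k := by
        rw [QuotientGroup.mk_mul, QuotientGroup.mk_zpow]
      have e2 : ((b * p ^ l : Q) : Q ⧸ R) = (b : Q ⧸ R) * (p : Q ⧸ R) ^ l := by
        rw [QuotientGroup.mk_mul, QuotientGroup.mk_zpow]
      rw [e1, e2]
      apply Commute.mul_left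
      · apply Commute.mul_right hcb
        exact (hcp a ha).zpow_right l
      · apply Commute.mul_right
        · exact ((hcp b hb).zpow_right k).symm
        · exact (Commute.refl _).zpow_zpow k l
    have h8 := h7.eq
    show ((a * p ^ k : Q) : Q ⧸ R) * ((b * p ^ l : Q) : Q ⧸ R) * ((a * p ^ k : Q) : Q ⧸ R)⁻¹ *
      ((b * p ^ l : Q) : Q ⧸ R)⁻¹ = 1
    rw [h8]
    group
  have hle : commutator Q ≤ R := by
    rw [commutator_def, Subgroup.commutator_le]
    intro g _ h _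
    exact hab g h
  exact hle hx

section lifts

variable {ℓ : ℕ} {D X : Type u} [Group D] [Group X] {π : D →* X}

/-- Every element of `E` lifts into `oL ℓ (E.comap π)`. -/
theorem exists_oL_lift (hℓ : ℓ.Prime) (hπ : Function.Surjective π)
    (hl : ∀ z ∈ π.ker, ∃ k : ℕ, z ^ ℓ ^ k = 1) (E : Subgroup X) (hG : GenL ℓ E) (y : E) :
    (y : X) ∈ (oL ℓ (E.comap π)).map π := by
  have hy : y ∈ Subgroup.closure {y : E | ¬ ℓ ∣ orderOf y} := by
    rw [hG]; exact Subgroup.mem_top y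
  induction hy using Subgroup.closure_induction with
  | mem y hy =>
    have h0 : ¬ ℓ ∣ orderOf (y : X) := by
      rw [Subgroup.orderOf_coe]; exact hy
    obtain ⟨x, hx, hx2⟩ := exists_lift_coprime hℓ π hπ hl (pow_orderOf_eq_one (y : X)) h0
    refine ⟨x, Subgroup.subset_closure ⟨?_, hx2⟩, hx⟩
    show π x ∈ E
    rw [hx]; exact y.2
  | one => exact one_mem _
  | mul x y _ _ hx hy => exact mul_mem hx hy
  | inv x _ hx => exact inv_mem hx

/-- The kernel meets `oL ℓ (E.comap π)` trivially. -/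
theorem eq_one_of_mem_oL [Finite D] (hℓ : ℓ.Prime) (hπ : Function.Surjective π)
    (hZ : π.ker ≤ Subgroup.center D) (hl : ∀ z ∈ π.ker, ∃ k : ℕ, z ^ ℓ ^ k = 1) (E : Subgroup X)
    (hK : Good ℓ E) {z : D} (hz : z ∈ π.ker) (hzL : z ∈ oL ℓ (E.comap π)) : z = 1 := by
  let S : Subgroup D := E.comap π
  obtain ⟨h1, n, hn, hzn⟩ := exists_pow_mem_commutator hℓ S hzL
  obtain ⟨k, hk⟩ := hl z hz
  have hco : Nat.Coprime (ℓ ^ k) n :=
    Nat.Coprime.pow_left k ((Nat.Prime.coprime_iff_not_dvd hℓ).mpr hn)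
  have hcz : (⟨z, h1⟩ : S) ∈ commutator S := by
    have hof : ∀ g : S, g ∈ commutator S ↔ Abelianization.of g = 1 := by
      intro g
      rw [← MonoidHom.mem_ker, Abelianization.ker_of]
    rw [hof] at hzn ⊢
    have h5 : (Abelianization.of (⟨z, h1⟩ : S)) ^ (ℓ ^ k) = 1 := by
      rw [← map_pow]
      have : (⟨z, h1⟩ : S) ^ (ℓ ^ k) = 1 := Subtype.ext (by simpa using hk)
      rw [this, map_one]
    rw [map_pow] at hzn
    have h6 := orderOf_dvd_of_pow_eq_one h5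
    have h7 := orderOf_dvd_of_pow_eq_one hzn
    have h8 : orderOf (Abelianization.of (⟨z, h1⟩ : S)) ∣ Nat.gcd (ℓ ^ k) n := Nat.dvd_gcd h6 h7
    rw [hco] at h8
    exact orderOf_eq_one_iff.mp (Nat.dvd_one.mp h8)
  have h9 := hK.apply_comap hπ hZ hl (z := ⟨z, h1⟩) hz hcz
  exact congrArg Subtype.val h9

/-- Conjugation invariance of `oL`. -/
theorem oL_conj (E : Subgroup X) (g : D) (hg : ∀ e ∈ E, π g * e * (π g)⁻¹ ∈ E) {x : D}
    (hx : x ∈ oL ℓ (E.comap π)) : g * x * g⁻¹ ∈ oL ℓ (E.comap π) := by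
  induction hx using Subgroup.closure_induction with
  | mem x hx =>
    apply Subgroup.subset_closure
    refine ⟨?_, ?_⟩
    · show π (g * x * g⁻¹) ∈ E
      rw [map_mul, map_mul, map_inv]
      exact hg _ hx.1
    · have : orderOf (g * x * g⁻¹) = orderOf x := by
        have := orderOf_injective (MulAut.conj g).toMonoidHom (MulAut.conj g).injective x
        simpa using this
      rw [this]
      exact hx.2
  | one => simp
  | mul x y _ _ hx hy =>
    have : g * (x * y) * g⁻¹ = (g * x * g⁻¹) * (g * y * g⁻¹) := by group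
    rw [this]
    exact mul_mem hx hy
  | inv x _ hx =>
    have : g * x⁻¹ * g⁻¹ = (g * x * g⁻¹)⁻¹ := by group
    rw [this]
    exact inv_mem hx

/-- An element `t̃` of the extension commutes with every lift of a subgroup `Y` generated by
`ℓ'`-elements, when `π t̃` centralizes `Y`. -/
theorem commute_lift_of_genL (hℓ : ℓ.Prime) (hπ : Function.Surjective π)
    (hZ : π.ker ≤ Subgroup.center D) (hl : ∀ z ∈ π.ker, ∃ k : ℕ, z ^ ℓ ^ k = 1) (Y : Subgroup X)
    (hY : GenL ℓ Y) (t : D) (hc : ∀ y ∈ Y, Commute (π t) y) {y : D} (hy : π y ∈ Y) :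
    Commute t y := by
  -- the subgroup of elements all of whose lifts commute with `t`
  let S : Subgroup X :=
    { carrier := {x | ∀ x' : D, π x' = x → Commute t x'}
      one_mem' := by
        intro x' hx'
        have : x' ∈ π.ker := hx'
        exact ((Subgroup.mem_center_iff.mp (hZ this)) t)
      mul_mem' := by
        intro a b ha hb x' hx'
        obtain ⟨a', rfl⟩ := hπ a
        have h1 : π (a'⁻¹ * x') = b := by
          rw [map_mul, map_inv, hx']; simp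
        have h2 := ha a' rfl
        have h3 := hb _ h1
        have h4 : x' = a' * (a'⁻¹ * x') := by group
        rw [h4]
        exact h2.mul_right h3
      inv_mem' := by
        intro a ha x' hx'
        have h1 : π x'⁻¹ = a := by
          rw [map_inv, hx', inv_inv]
        have h2 := ha _ h1
        have h3 : x' = x'⁻¹⁻¹ := by simp
        rw [h3]
        exact h2.inv_right }
  have hgen : ∀ u : Y, (u : X) ∈ S := by
    intro u
    have hu : u ∈ Subgroup.closure {y : Y | ¬ ℓ ∣ orderOf y} := by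
      rw [hY]; exact Subgroup.mem_top u
    induction hu using Subgroup.closure_induction with
    | mem u hu =>
      have h0 : ¬ ℓ ∣ orderOf (u : X) := by
        rw [Subgroup.orderOf_coe]; exact hu
      obtain ⟨x, hx, hx2⟩ := exists_lift_coprime hℓ π hπ hl (pow_orderOf_eq_one (u : X)) h0
      -- `c = [t, x]` is central of `ℓ`-power order, and a `k`-th root of unity
      have hcomm : π (t * x * t⁻¹ * x⁻¹) = 1 := by
        have h1 := (hc _ u.2).eq
        rw [map_mul, map_mul, map_mul, map_inv, map_inv, hx, h1]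
        group
      have hcker : t * x * t⁻¹ * x⁻¹ ∈ π.ker := hcomm
      set c := t * x * t⁻¹ * x⁻¹ with hcdef
      have hcc : ∀ g : D, g * c = c * g := fun g => Subgroup.mem_center_iff.mp (hZ hcker) g
      have hconj : t * x * t⁻¹ = c * x := by
        rw [hcdef]; group
      have hk : c ^ orderOf x = 1 := by
        have h1 : (t * x * t⁻¹) ^ orderOf x = 1 := by
          rw [conj_pow, pow_orderOf_eq_one]; group
        rw [hconj, (show Commute c x from (hcc x).symm).mul_pow, pow_orderOf_eq_one, mul_one] at h1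
        exact h1
      obtain ⟨e, he⟩ := hl c hcker
      have hco : Nat.Coprime (ℓ ^ e) (orderOf x) :=
        Nat.Coprime.pow_left e ((Nat.Prime.coprime_iff_not_dvd hℓ).mpr hx2)
      have hc1 : c = 1 := by
        have h6 := orderOf_dvd_of_pow_eq_one he
        have h7 := orderOf_dvd_of_pow_eq_one hk
        have h8 : orderOf c ∣ Nat.gcd (ℓ ^ e) (orderOf x) := Nat.dvd_gcd h6 h7
        rw [hco] at h8
        exact orderOf_eq_one_iff.mp (Nat.dvd_one.mp h8)
      have htx : Commute t x := by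
        rw [hc1, one_mul] at hconj
        show t * x = x * t
        calc t * x = t * x * t⁻¹ * t := by group
          _ = x * t := by rw [hconj]
      intro x' hx'
      have h9 : x⁻¹ * x' ∈ π.ker := by
        rw [MonoidHom.mem_ker, map_mul, map_inv, hx, hx']; simp
      have h10 : x' = x * (x⁻¹ * x') := by group
      rw [h10]
      exact htx.mul_right ((Subgroup.mem_center_iff.mp (hZ h9)) t)
    | one => exact one_mem _
    | mul a b _ _ ha hb => exact mul_mem ha hb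
    | inv a _ ha => exact inv_mem ha
  exact hgen ⟨π y, hy⟩ y rfl

end lifts

/-- **The abstract wreath argument.** -/
theorem abstract_wreath {ℓ : ℕ} (hℓ : ℓ.Prime) {X : Type u} [Group X] (E A C : Subgroup X) (π₀ : X)
    (hEA : E ≤ A) (hAC : A ≤ C) (hπC : π₀ ∈ C) (hCgen : ∀ c ∈ C, ∃ a ∈ A, ∃ k : ℤ, c = a * π₀ ^ k)
    (hEn : ∀ c ∈ C, ∀ e ∈ E, c * e * c⁻¹ ∈ E) (hAn : ∀ c ∈ C, ∀ a ∈ A, c * a * c⁻¹ ∈ A)
    (hE : Good ℓ E) (hEg : GenL ℓ E) (Tg : Set X) (hTA : Subgroup.closure Tg ≤ A)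
    (hdec : ∀ a ∈ A, ∃ e ∈ E, ∃ t ∈ Subgroup.closure Tg, a = e * t)
    {D : Type u} [Group D] [Finite D] (π : D →* X) (hπ : Function.Surjective π)
    (hZ : π.ker ≤ Subgroup.center D) (hl : ∀ z ∈ π.ker, ∃ k : ℕ, z ^ ℓ ^ k = 1)
    (hT : ∀ u ∈ Tg, ∀ v ∈ Tg, ∀ u' v' : D, π u' = u → π v' = v → Commute u' v')
    (hfix : ∀ a ∈ A, ⁅a, π₀⁆ ∈ E → ∃ t₀ ∈ A, t₀⁻¹ * a ∈ E ∧
      ∀ t' p' : D, π t' = t₀ → π p' = π₀ → Commute t' p')
    (z : C.comap π) (hz : π z = 1) (hzc : z ∈ commutator (C.comap π)) : z = 1 := by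
  let H : Subgroup D := C.comap π
  let L : Subgroup D := oL ℓ (E.comap π)
  have hLconj : ∀ h : D, π h ∈ C → ∀ x ∈ L, h * x * h⁻¹ ∈ L := fun h hh x hx =>
    oL_conj E h (fun e he => hEn _ hh e he) hx
  have hLE : ∀ x ∈ L, π x ∈ E := fun x hx => oL_le ℓ (E.comap π) hx
  have hcen : ∀ x ∈ π.ker, ∀ g : D, g * x = x * g := fun x hx g =>
    Subgroup.mem_center_iff.mp (hZ hx) g
  let N : Subgroup H := L.subgroupOf H
  have hNmem : ∀ x : H, x ∈ N ↔ (x : D) ∈ L := fun x => Subgroup.mem_subgroupOf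
  haveI hNn : N.Normal := by
    constructor
    intro x hx g
    rw [hNmem] at hx ⊢
    exact hLconj g g.2 _ hx
  let mk : H →* H ⧸ N := QuotientGroup.mk' N
  have hmk : Function.Surjective mk := QuotientGroup.mk'_surjective N
  have hmkeq : ∀ x y : H, mk x = mk y ↔ ((x : D)⁻¹ * y) ∈ L := by
    intro x y
    have h1 : mk x = mk y ↔ x⁻¹ * y ∈ N := QuotientGroup.eq
    rw [h1, hNmem]
    rfl
  let At : Subgroup H := (A.comap π).subgroupOf H
  have hAtmem : ∀ x : H, x ∈ At ↔ π x ∈ A := fun x => Subgroup.mem_subgroupOf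
  haveI hAtn : At.Normal := by
    constructor
    intro x hx g
    rw [hAtmem] at hx ⊢
    have h1 : π ((g * x * g⁻¹ : H) : D) = π g * π x * (π g)⁻¹ := by
      show π ((g : D) * x * (g : D)⁻¹) = _
      rw [map_mul, map_mul, map_inv]
    rw [h1]
    exact hAn _ g.2 _ hx
  let B : Subgroup (H ⧸ N) := At.map mk
  haveI hBn : B.Normal := Subgroup.Normal.map hAtn mk hmk
  obtain ⟨p₀, hp₀⟩ := hπ π₀
  have hp₀H : p₀ ∈ H := by
    show π p₀ ∈ C
    rw [hp₀]; exact hπC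
  let p : H := ⟨p₀, hp₀H⟩
  -- the abelian part
  let Wg : Set D := π ⁻¹' Tg
  have hWc : ∀ x ∈ Wg, ∀ y ∈ Wg, x * y = y * x := fun x hx y hy =>
    (hT _ hx _ hy x y rfl rfl).eq
  let W : Subgroup D := Subgroup.closure Wg
  have hWcomm : ∀ x ∈ W, ∀ y ∈ W, x * y = y * x := by
    intro x hx y hy
    haveI := Subgroup.isMulCommutative_closure hWc
    have := mul_comm' (⟨x, hx⟩ : Subgroup.closure Wg) ⟨y, hy⟩
    exact congrArg Subtype.val this
  have hWmap : W.map π = Subgroup.closure Tg := by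
    rw [MonoidHom.map_closure, Set.image_preimage_eq _ hπ]
  have hWA : ∀ w ∈ W, π w ∈ C := by
    intro w hw
    have h1 : π w ∈ W.map π := Subgroup.mem_map_of_mem π hw
    rw [hWmap] at h1
    exact hAC (hTA h1)
  have hdecD : ∀ a : D, π a ∈ A → ∃ l ∈ L, ∃ w ∈ W, ∃ z' ∈ π.ker, a = l * w * z' := by
    intro a ha
    obtain ⟨e, he, t, ht, hat⟩ := hdec _ ha
    rw [← hWmap] at ht
    obtain ⟨w, hw, rfl⟩ := ht
    obtain ⟨l, hl1, hl2⟩ := exists_oL_lift hℓ hπ hl E hEg ⟨e, he⟩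
    refine ⟨l, hl1, w, hw, (l * w)⁻¹ * a, ?_, by group⟩
    rw [MonoidHom.mem_ker, map_mul, map_inv, map_mul, hat]
    rw [show π l = e from hl2]
    simp
  have hBc : ∀ a ∈ B, ∀ b ∈ B, a * b = b * a := by
    rintro _ ⟨a, ha, rfl⟩ _ ⟨b, hb, rfl⟩
    rw [← map_mul, ← map_mul, hmkeq]
    replace ha := (hAtmem a).1 ha
    replace hb := (hAtmem b).1 hb
    obtain ⟨l, hl1, w, hw, z₁, hz₁, hae⟩ := hdecD _ ha
    obtain ⟨l', hl1', w', hw', z₂, hz₂, hbe⟩ := hdecD _ hb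
    show ((a : D) * b)⁻¹ * ((b : D) * a) ∈ L
    rw [hae, hbe]
    have hww : w * w' = w' * w := hWcomm w hw w' hw'
    have hl₁ : l * (w * l' * w⁻¹) ∈ L := mul_mem hl1 (hLconj w (hWA w hw) l' hl1')
    have hl₂ : l' * (w' * l * w'⁻¹) ∈ L := mul_mem hl1' (hLconj w' (hWA w' hw') l hl1)
    have hc1 : ∀ g, g * z₁ = z₁ * g := hcen z₁ hz₁
    have hc2 : ∀ g, g * z₂ = z₂ * g := hcen z₂ hz₂
    have h1 : l * w * z₁ * (l' * w' * z₂) = (l * (w * l' * w⁻¹)) * (w * w') * (z₁ * z₂) := by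
      calc l * w * z₁ * (l' * w' * z₂) = l * w * (z₁ * (l' * w' * z₂)) := by group
        _ = l * w * ((l' * w' * z₂) * z₁) := by rw [hc1]
        _ = l * w * (l' * w') * (z₂ * z₁) := by group
        _ = l * w * (l' * w') * (z₁ * z₂) := by rw [hc1 z₂]
        _ = _ := by group
    have h2 : l' * w' * z₂ * (l * w * z₁) = (l' * (w' * l * w'⁻¹)) * (w * w') * (z₁ * z₂) := by
      calc l' * w' * z₂ * (l * w * z₁) = l' * w' * (z₂ * (l * w * z₁)) := by group
        _ = l' * w' * ((l * w * z₁) * z₂) := by rw [hc2]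
        _ = l' * w' * (l * w) * (z₁ * z₂) := by group
        _ = (l' * (w' * l * w'⁻¹)) * (w' * w) * (z₁ * z₂) := by group
        _ = _ := by rw [hww]
    rw [h1, h2]
    have h3 : ((l * (w * l' * w⁻¹)) * (w * w') * (z₁ * z₂))⁻¹ *
        ((l' * (w' * l * w'⁻¹)) * (w * w') * (z₁ * z₂)) =
        (w * w')⁻¹ * ((l * (w * l' * w⁻¹))⁻¹ * (l' * (w' * l * w'⁻¹))) * ((w * w')⁻¹)⁻¹ := by
      have hZc : ∀ g : D, g * (z₁ * z₂) = (z₁ * z₂) * g := fun g => by
        rw [← mul_assoc, hc1 g, mul_assoc, hc2 g, mul_assoc]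
      generalize z₁ * z₂ = Z at hZc
      generalize l * (w * l' * w⁻¹) = P
      generalize l' * (w' * l * w'⁻¹) = Q
      generalize w * w' = R at *
      have h7 : (P * R * Z)⁻¹ * (Q * R * Z) = Z⁻¹ * (R⁻¹ * (P⁻¹ * Q) * R * Z) := by group
      rw [h7, hZc (R⁻¹ * (P⁻¹ * Q) * R)]
      group
    rw [h3]
    apply hLconj
    · rw [map_inv]
      rw [map_mul]
      exact inv_mem (mul_mem (hWA w hw) (hWA w' hw'))
    · exact mul_mem (inv_mem hl₁) hl₂
  have hgen : ∀ x : H ⧸ N, ∃ a ∈ B, ∃ k : ℤ, x = a * (mk p) ^ k := by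
    intro x
    obtain ⟨h, rfl⟩ := hmk x
    obtain ⟨a₀, ha₀, k, hk⟩ := hCgen _ h.2
    refine ⟨mk (h * p ^ (-k)), ⟨_, ?_, rfl⟩, k, ?_⟩
    · apply (hAtmem _).2
      have h1 : π ((h * p ^ (-k) : H) : D) = π h * π₀ ^ (-k) := by
        show π ((h : D) * (p₀ ^ (-k))) = _
        rw [map_mul, map_zpow, hp₀]
      rw [h1, hk]
      have : a₀ * π₀ ^ k * π₀ ^ (-k) = a₀ := by
        rw [mul_assoc, ← zpow_add]; simp
      rw [this]
      exact ha₀
    · rw [← map_zpow, ← map_mul]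
      congr 1
      rw [mul_assoc, ← zpow_add]
      simp
  have hzc' : mk z ∈ commutator (H ⧸ N) := by
    have h2 := Subgroup.mem_map_of_mem mk hzc
    have h3 : (commutator H).map mk ≤ commutator (H ⧸ N) := by
      rw [commutator_def, commutator_def, Subgroup.map_commutator]
      exact Subgroup.commutator_mono le_top le_top
    exact h3 h2
  obtain ⟨_, ⟨a, ha, rfl⟩, hza⟩ := mem_comm_form B hBn hBc (mk p) hgen hzc'
  replace ha := (hAtmem a).1 ha
  rw [← map_commutatorElement, eq_comm, hmkeq] at hza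
  -- `z = ⁅a, p⁆ l₀`
  set c : D := (a : D) * p₀ * (a : D)⁻¹ * p₀⁻¹ with hcdef
  have hcoe : ((⁅a, p⁆ : H) : D) = c := rfl
  rw [hcoe] at hza
  have hzeq : (z : D) = c * (c⁻¹ * z) := by group
  have hπc : ⁅π a, π₀⁆ ∈ E := by
    have h1 : π c * π (c⁻¹ * z) = 1 := by
      rw [← map_mul, ← hzeq]; exact hz
    have h2 : π c = (π (c⁻¹ * z))⁻¹ := eq_inv_of_mul_eq_one_left h1
    have h3 : ⁅π a, π₀⁆ = π c := by
      rw [commutatorElement_def, hcdef, map_mul, map_mul, map_mul, map_inv, map_inv, hp₀]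
    rw [h3, h2]
    exact inv_mem (hLE _ hza)
  obtain ⟨t₀, ht₀, he, hK2⟩ := hfix _ ha hπc
  obtain ⟨t', ht'⟩ := hπ t₀
  obtain ⟨l₁, hl₁, hl₁e⟩ := exists_oL_lift hℓ hπ hl E hEg ⟨t₀⁻¹ * π a, he⟩
  have hl₁e' : π l₁ = t₀⁻¹ * π a := hl₁e
  have hz₁ : (t' * l₁)⁻¹ * (a : D) ∈ π.ker := by
    rw [MonoidHom.mem_ker, map_mul, map_inv, map_mul, ht', hl₁e']
    simp
  set z₁ := (t' * l₁)⁻¹ * (a : D) with hz₁def
  have hae : (a : D) = t' * l₁ * z₁ := by
    rw [hz₁def]; group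
  have hcomm := hK2 t' p₀ ht' hp₀
  have hct : t' * p₀ = p₀ * t' := hcomm.eq
  have hcL : c ∈ L := by
    have h1 : c = t' * (l₁ * (p₀ * l₁⁻¹ * p₀⁻¹)) * t'⁻¹ := by
      have hc1 : ∀ g, g * z₁ = z₁ * g := hcen z₁ hz₁
      have h2 : (a : D) * p₀ * (a : D)⁻¹ = t' * l₁ * p₀ * (t' * l₁)⁻¹ := by
        rw [hae]
        calc t' * l₁ * z₁ * p₀ * (t' * l₁ * z₁)⁻¹ = t' * l₁ * (z₁ * p₀) * z₁⁻¹ * (t' * l₁)⁻¹ := by group
          _ = t' * l₁ * (p₀ * z₁) * z₁⁻¹ * (t' * l₁)⁻¹ := by rw [hc1 p₀]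
          _ = _ := by group
      rw [hcdef, h2]
      have h3 : t'⁻¹ * p₀⁻¹ = p₀⁻¹ * t'⁻¹ := by
        rw [← mul_inv_rev, ← mul_inv_rev, hct]
      calc t' * l₁ * p₀ * (t' * l₁)⁻¹ * p₀⁻¹ = t' * l₁ * p₀ * l₁⁻¹ * (t'⁻¹ * p₀⁻¹) := by group
        _ = t' * l₁ * p₀ * l₁⁻¹ * (p₀⁻¹ * t'⁻¹) := by rw [h3]
        _ = _ := by group
    rw [h1]
    have hmem1 : π t' ∈ C := by
      rw [ht']; exact hAC ht₀
    apply hLconj _ hmem1
    exact mul_mem hl₁ (hLconj _ (by rw [hp₀]; exact hπC) _ (inv_mem hl₁))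
  have hzL : (z : D) ∈ L := by
    rw [hzeq]
    exact mul_mem hcL hza
  exact Subtype.ext (eq_one_of_mem_oL hℓ hπ hZ hl E hE hz hzL)

end Cfsg.Agent.Lib.PSUMult
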