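import Mathlib
import Cfsg.Agent.Lib.PSUMult.PartII3
import Cfsg.Agent.Lib.PSUMult.PartIIa
import Cfsg.Agent.Lib.PSUMult.PartIIt

/-!
# Part II: the strong induction, with the wreath step as a parameter
-/

set_option autoImplicit false
set_option linter.style.haveILetI false

open Cfsg

namespace Cfsg.Agent.Lib.PSUMult

universe u

variable {F : Type u} [Field F] [Fintype F] {q ℓ : ℕ}

open Cfsg.Agent.Lib.Classical.Herm.GU Cfsg.Agent.Lib.Classical.Herm.SU

theorem good_SU_of_ne_aux (hF : Fintype.card F = q ^ 2) [hℓ : Fact ℓ.Prime] (hq' : ¬ ℓ ∣ q)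
    (hW : ∀ m, 1 ≤ m → (ℓ = 2 → Even m) → Good ℓ (SU m F q) → GenL ℓ (SU m F q) →
      (∀ k < ℓ * m, Good ℓ (SU k F q)) →
      padicValNat ℓ (gA q (ℓ * m)) = ℓ * padicValNat ℓ (gA q m) + 1 → Good ℓ (SU (ℓ * m) F q))
    (n : ℕ) : Good ℓ (SU n F q) := by
  have hq2 : 2 ≤ q := Cfsg.Agent.Lib.Classical.Herm.Basic.two_le_q hF
  induction n using Nat.strong_induction_on with
  | _ n ih =>
    have hblock : ∀ a b, 1 ≤ a → 1 ≤ b → a + b = n →
        padicValNat ℓ (gA q n) = padicValNat ℓ (gA q a) + padicValNat ℓ (gA q b) →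
        Good ℓ (SU n F q) := by
      rintro a b ha hb rfl hv
      exact good_block hF hq' ha (ih a (by omega)) (ih b (by omega)) hv
    have hwr : ∀ m, 1 ≤ m → (ℓ = 2 → Even m) → n = ℓ * m →
        padicValNat ℓ (gA q n) = ℓ * padicValNat ℓ (gA q m) + 1 → Good ℓ (SU n F q) := by
      rintro m hm hev rfl hv
      have h2 : 2 ≤ ℓ := hℓ.out.two_le
      have hlt : m < ℓ * m := by nlinarith
      exact hW m hm hev (ih m hlt) (genL_SU hF hℓ.out hq' m) ih hv
    by_cases hn : n ≤ 1
    · haveI : Subsingleton (SU n F q) := by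
        have hn' : n = 0 ∨ n = 1 := by omega
        rcases hn' with rfl | rfl
        · exact ⟨fun a b => by
            apply Subtype.ext
            apply Subtype.ext
            ext i
            exact i.elim0⟩
        · exact ⟨fun a b => by
            rw [Cfsg.Agent.Lib.Classical.Herm.Gen.su_one_eq a,
              Cfsg.Agent.Lib.Classical.Herm.Gen.su_one_eq b]⟩
      exact good_of_isCyclic
    push Not at hn
    have hn2 : 2 ≤ n := hn
    by_cases hl2 : ℓ = 2
    · subst hl2
      have hoddq : Odd q := by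
        rw [← Nat.not_even_iff_odd, even_iff_two_dvd]
        exact hq'
      rcases descent_two hq2 hoddq n hn2 with ⟨a, b, ha, hb, hab, hv⟩ | ⟨m, hm, hme, rfl, hv⟩ | rfl
      · exact hblock a b ha hb hab hv
      · exact hwr m (by omega) (fun _ => hme) rfl hv
      · exact good_SU2_two hF hoddq
    · have hodd : Odd ℓ := hℓ.out.odd_of_ne_two hl2
      rcases descent_all hodd hq2 rfl hq' n hn2 with
        ⟨a, b, ha, hb, hab, hv⟩ | ⟨m, hm, hnm, hv⟩ | hnd
      · exact hblock a b ha hb hab hv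
      · exact hwr m hm (fun h => absurd h hl2) hnm hv
      · exact good_SU_base_all hF hq' hnd.symm

end Cfsg.Agent.Lib.PSUMult
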